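import Cfsg.Agent.CosetEnum.Lower

/-! Generated coset enumeration certificate: Fischer quadrangle groups, FiveA. -/

set_option autoImplicit false
set_option maxRecDepth 100000

namespace CfsgLib.FischerGQ.Cert.FiveA

open CfsgLib.CosetEnum

noncomputable def epFLeaf (c : ℕ) : ℕ :=
  0x60000000001ff0000000001c600007000047f0000700004430000a000043f0000a000040100010000053f00010000050300011000047f0001700004440001600006ff0001600007430001a00007440001900006c20001a00006c40001100006840000f00006430000d00005c40001600005c30001400005830000c00005010001400005040000a00004460001100004430001000004420000f00004020000a00003c30000900003420000c00003440000900003040000700002810000a00002830000700002420000700001c10000700001c600000000000500000000000400000000000300000000000200000000000100000000000000000000003f00000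

/-- table entries -/
noncomputable def epF (i : ℕ) : ℕ :=
  ((epFLeaf (i >>> 9)) >>> (48 * (i % 512))) % 281474976710656

noncomputable def nodeFLeaf (c : ℕ) : ℕ :=
  0x0

/-- table entries -/
noncomputable def nodeF (i : ℕ) : ℕ :=
  ((nodeFLeaf (i >>> 10)) >>> (20 * (i % 1024))) % 1048576

noncomputable def TFLeaf (c : ℕ) : ℕ :=
  0x0

/-- table entries -/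
noncomputable def TF (i : ℕ) : ℕ :=
  ((TFLeaf (i >>> 10)) >>> (20 * (i % 1024))) % 1048576

noncomputable def tfFLeaf (c : ℕ) : ℕ :=
  0x5400000c00000a000008000006000004000002

/-- table entries -/
noncomputable def tfF (i : ℕ) : ℕ :=
  ((tfFLeaf (i >>> 10)) >>> (24 * (i % 1024))) % 16777216

noncomputable def parFLeaf (c : ℕ) : ℕ :=
  0x0

/-- table entries -/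
noncomputable def parF (i : ℕ) : ℕ :=
  ((parFLeaf (i >>> 10)) >>> (32 * (i % 1024))) % 4294967296

/-- the words: relators, then generators of the subgroup -/
def words : List (List ℕ) := [[0, 0], [1, 1], [2, 2], [3, 3], [4, 4], [5, 5], [0, 1, 0, 1, 0, 1], [0, 2, 0, 2], [0, 3, 0, 3], [0, 4, 0, 4], [0, 5, 0, 5], [1, 2, 1, 2, 1, 2], [1, 3, 1, 3], [1, 4, 1, 4], [1, 5, 1, 5, 1, 5], [2, 3, 2, 3, 2, 3], [2, 4, 2, 4], [2, 5, 2, 5], [3, 4, 3, 4, 3, 4], [3, 5, 3, 5, 3, 5], [4, 5, 4, 5], [1, 2, 1, 0, 1, 0, 5, 0, 1, 0, 1, 2, 1, 0, 2, 4, 5], [6, 6], [6, 0, 6, 0], [6, 1, 6, 1], [6, 2, 6, 2, 6, 2], [6, 3, 6, 3, 6, 3], [6, 4, 6, 4, 6, 4], [6, 5, 6, 5, 6, 5], [6, 1, 0, 1, 6, 1, 0, 1], [6, 2, 1, 2, 6, 2, 1, 2,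 6, 2, 1, 2], [6, 5, 1, 5, 6, 5, 1, 5, 6, 5, 1, 5], [6, 3, 2, 3, 6, 3, 2, 3, 6, 3, 2, 3], [6, 4, 3, 4, 6, 4, 3, 4, 6, 4, 3, 4], [6, 5, 3, 5, 6, 5, 3, 5, 6, 5, 3, 5], [6, 2, 1, 0, 1, 2, 6, 2, 1, 0, 1, 2, 6, 2, 1, 0, 1, 2], [6, 5, 1, 0, 1, 5, 6, 5, 1, 0, 1, 5, 6, 5, 1, 0, 1, 5], [6, 3, 2, 1, 2, 3, 6, 3, 2, 1, 2, 3, 6, 3, 2, 1, 2, 3], [6, 5, 2, 1, 2, 5, 6, 5, 2, 1, 2, 5, 6, 5, 2, 1, 2, 5], [6, 3, 5, 1, 5, 3, 6, 3, 5, 1, 5, 3, 6, 3, 5, 1, 5, 3], [6, 4, 3, 2, 3, 4, 6, 4, 3, 2, 3, 4, 6, 4, 3, 2, 3, 4], [6, 5, 3, 2, 3, 5, 6, 5, 3, 2, 3, 5, 6, 5, 3, 2, 3, 5], [6, 5, 4, 3, 4, 5, 6, 5, 4, 3, 4, 5, 6, 5, 4, 3, 4, 5], [6, 3, 2, 1, 0, 1, 2, 3, 6, 3, 2, 1, 0, 1, 2, 3, 6, 3, 2, 1, 0, 1, 2, 3], [6, 5, 2, 1, 0,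 1, 2, 5, 6, 5, 2, 1, 0, 1, 2, 5, 6, 5, 2, 1, 0, 1, 2, 5], [6, 3, 5, 1, 0, 1, 5, 3, 6, 3, 5, 1, 0, 1, 5, 3, 6, 3, 5, 1, 0, 1, 5, 3], [6, 4, 3, 2, 1, 2, 3, 4, 6, 4, 3, 2, 1, 2, 3, 4, 6, 4, 3, 2, 1, 2, 3, 4], [6, 5, 3, 2, 1, 2, 3, 5, 6, 5, 3, 2, 1, 2, 3, 5], [6, 3, 5, 2, 1, 2, 5, 3, 6, 3, 5, 2, 1, 2, 5, 3, 6, 3, 5, 2, 1, 2, 5, 3], [6, 2, 3, 5, 1, 5, 3, 2, 6, 2, 3, 5, 1, 5, 3, 2, 6, 2, 3, 5, 1, 5, 3, 2], [6, 4, 3, 5, 1, 5, 3, 4, 6, 4, 3, 5, 1, 5, 3, 4, 6, 4, 3, 5, 1, 5, 3, 4], [6, 5, 4, 3, 2, 3, 4, 5, 6, 5, 4, 3, 2, 3, 4, 5, 6, 5, 4, 3, 2, 3, 4, 5], [6, 1, 5, 3, 2, 3, 5, 1, 6, 1, 5, 3, 2, 3, 5, 1, 6, 1, 5, 3, 2, 3, 5, 1], [6, 4, 3, 2, 1, 0, 1, 2, 3, 4, 6, 4, 3, 2, 1, 0, 1, 2, 3, 4, 6, 4, 3, 2, 1, 0,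 1, 2, 3, 4], [6, 5, 3, 2, 1, 0, 1, 2, 3, 5, 6, 5, 3, 2, 1, 0, 1, 2, 3, 5], [6, 1, 5, 2, 1, 0, 1, 2, 5, 1, 6, 1, 5, 2, 1, 0, 1, 2, 5, 1, 6, 1, 5, 2, 1, 0, 1, 2, 5, 1], [6, 3, 5, 2, 1, 0, 1, 2, 5, 3, 6, 3, 5, 2, 1, 0, 1, 2, 5, 3, 6, 3, 5, 2, 1, 0, 1, 2, 5, 3], [6, 2, 3, 5, 1, 0, 1, 5, 3, 2, 6, 2, 3, 5, 1, 0, 1, 5, 3, 2, 6, 2, 3, 5, 1, 0, 1, 5, 3, 2], [6, 4, 3, 5, 1, 0, 1, 5, 3, 4, 6, 4, 3, 5, 1, 0, 1, 5, 3, 4, 6, 4, 3, 5, 1, 0, 1, 5, 3, 4], [6, 5, 4, 3, 2, 1, 2, 3, 4, 5, 6, 5, 4, 3, 2, 1, 2, 3, 4, 5, 6, 5, 4, 3, 2, 1, 2, 3, 4, 5], [6, 1, 5, 3, 2, 1, 2, 3, 5, 1, 6, 1, 5, 3, 2, 1, 2, 3, 5, 1], [6, 3, 5, 3, 2, 1, 2, 3, 5, 3, 6, 3, 5, 3, 2, 1, 2, 3, 5, 3, 6, 3, 5, 3, 2, 1, 2, 3, 5, 3], [6, 4, 3, 5, 2,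 1, 2, 5, 3, 4, 6, 4, 3, 5, 2, 1, 2, 5, 3, 4, 6, 4, 3, 5, 2, 1, 2, 5, 3, 4], [6, 4, 2, 3, 5, 1, 5, 3, 2, 4, 6, 4, 2, 3, 5, 1, 5, 3, 2, 4], [6, 5, 4, 3, 2, 1, 0, 1, 2, 3, 4, 5, 6, 5, 4, 3, 2, 1, 0, 1, 2, 3, 4, 5, 6, 5, 4, 3, 2, 1, 0, 1, 2, 3, 4, 5], [6, 1, 5, 3, 2, 1, 0, 1, 2, 3, 5, 1, 6, 1, 5, 3, 2, 1, 0, 1, 2, 3, 5, 1], [6, 3, 5, 3, 2, 1, 0, 1, 2, 3, 5, 3, 6, 3, 5, 3, 2, 1, 0, 1, 2, 3, 5, 3, 6, 3, 5, 3, 2, 1, 0, 1, 2, 3, 5, 3], [6, 2, 3, 5, 2, 1, 0, 1, 2, 5, 3, 2, 6, 2, 3, 5, 2, 1, 0, 1, 2, 5, 3, 2], [2, 4, 6, 4, 2, 3, 4, 3, 2, 3, 4, 6, 4, 3, 2, 3, 4, 3], [1, 0, 1, 0, 1, 0], [2, 0, 2, 0], [3, 0, 3, 0], [4, 0, 4, 0], [5, 0, 5, 0], [2, 1, 2, 1, 2, 1], [3, 1, 3, 1], [4, 1, 4, 1], [5, 1, 5, 1, 5, 1],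 [3, 2, 3, 2, 3, 2], [4, 2, 4, 2], [5, 2, 5, 2], [4, 3, 4, 3, 4, 3], [5, 3, 5, 3, 5, 3], [5, 4, 5, 4], [5, 4, 2, 0, 1, 2, 1, 0, 1, 0, 5, 0, 1, 0, 1, 2, 1], [0, 6, 0, 6], [1, 6, 1, 6], [2, 6, 2, 6, 2, 6], [3, 6, 3, 6, 3, 6], [4, 6, 4, 6, 4, 6], [5, 6, 5, 6, 5, 6], [1, 0, 1, 6, 1, 0, 1, 6], [2, 1, 2, 6, 2, 1, 2, 6, 2, 1, 2, 6], [5, 1, 5, 6, 5, 1, 5, 6, 5, 1, 5, 6], [3, 2, 3, 6, 3, 2, 3, 6, 3, 2, 3, 6], [4, 3, 4, 6, 4, 3, 4, 6, 4, 3, 4, 6], [5, 3, 5, 6, 5, 3, 5, 6, 5, 3, 5, 6], [2, 1, 0, 1, 2, 6, 2, 1, 0, 1, 2, 6, 2, 1, 0, 1, 2, 6], [5, 1, 0, 1, 5, 6, 5, 1, 0, 1, 5, 6, 5, 1, 0, 1, 5, 6], [3, 2, 1, 2, 3, 6, 3, 2, 1, 2, 3, 6, 3, 2, 1, 2, 3, 6], [5, 2, 1, 2, 5, 6, 5, 2, 1, 2, 5, 6, 5, 2, 1, 2, 5, 6],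 [3, 5, 1, 5, 3, 6, 3, 5, 1, 5, 3, 6, 3, 5, 1, 5, 3, 6], [4, 3, 2, 3, 4, 6, 4, 3, 2, 3, 4, 6, 4, 3, 2, 3, 4, 6], [5, 3, 2, 3, 5, 6, 5, 3, 2, 3, 5, 6, 5, 3, 2, 3, 5, 6], [5, 4, 3, 4, 5, 6, 5, 4, 3, 4, 5, 6, 5, 4, 3, 4, 5, 6], [3, 2, 1, 0, 1, 2, 3, 6, 3, 2, 1, 0, 1, 2, 3, 6, 3, 2, 1, 0, 1, 2, 3, 6], [5, 2, 1, 0, 1, 2, 5, 6, 5, 2, 1, 0, 1, 2, 5, 6, 5, 2, 1, 0, 1, 2, 5, 6], [3, 5, 1, 0, 1, 5, 3, 6, 3, 5, 1, 0, 1, 5, 3, 6, 3, 5, 1, 0, 1, 5, 3, 6], [4, 3, 2, 1, 2, 3, 4, 6, 4, 3, 2, 1, 2, 3, 4, 6, 4, 3, 2, 1, 2, 3, 4, 6], [5, 3, 2, 1, 2, 3, 5, 6, 5, 3, 2, 1, 2, 3, 5, 6], [3, 5, 2, 1, 2, 5, 3, 6, 3, 5, 2, 1, 2, 5, 3, 6, 3, 5, 2, 1, 2, 5, 3, 6], [2, 3, 5, 1, 5, 3, 2, 6, 2, 3, 5, 1, 5, 3, 2, 6, 2, 3, 5, 1,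 5, 3, 2, 6], [4, 3, 5, 1, 5, 3, 4, 6, 4, 3, 5, 1, 5, 3, 4, 6, 4, 3, 5, 1, 5, 3, 4, 6], [5, 4, 3, 2, 3, 4, 5, 6, 5, 4, 3, 2, 3, 4, 5, 6, 5, 4, 3, 2, 3, 4, 5, 6], [1, 5, 3, 2, 3, 5, 1, 6, 1, 5, 3, 2, 3, 5, 1, 6, 1, 5, 3, 2, 3, 5, 1, 6], [4, 3, 2, 1, 0, 1, 2, 3, 4, 6, 4, 3, 2, 1, 0, 1, 2, 3, 4, 6, 4, 3, 2, 1, 0, 1, 2, 3, 4, 6], [5, 3, 2, 1, 0, 1, 2, 3, 5, 6, 5, 3, 2, 1, 0, 1, 2, 3, 5, 6], [1, 5, 2, 1, 0, 1, 2, 5, 1, 6, 1, 5, 2, 1, 0, 1, 2, 5, 1, 6, 1, 5, 2, 1, 0, 1, 2, 5, 1, 6], [3, 5, 2, 1, 0, 1, 2, 5, 3, 6, 3, 5, 2, 1, 0, 1, 2, 5, 3, 6, 3, 5, 2, 1, 0, 1, 2, 5, 3, 6], [2, 3, 5, 1, 0, 1, 5, 3, 2, 6, 2, 3, 5, 1, 0, 1, 5, 3, 2, 6, 2, 3, 5, 1, 0, 1, 5, 3, 2, 6], [4, 3, 5, 1, 0, 1, 5, 3, 4, 6, 4, 3, 5,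 1, 0, 1, 5, 3, 4, 6, 4, 3, 5, 1, 0, 1, 5, 3, 4, 6], [5, 4, 3, 2, 1, 2, 3, 4, 5, 6, 5, 4, 3, 2, 1, 2, 3, 4, 5, 6, 5, 4, 3, 2, 1, 2, 3, 4, 5, 6], [1, 5, 3, 2, 1, 2, 3, 5, 1, 6, 1, 5, 3, 2, 1, 2, 3, 5, 1, 6], [3, 5, 3, 2, 1, 2, 3, 5, 3, 6, 3, 5, 3, 2, 1, 2, 3, 5, 3, 6, 3, 5, 3, 2, 1, 2, 3, 5, 3, 6], [4, 3, 5, 2, 1, 2, 5, 3, 4, 6, 4, 3, 5, 2, 1, 2, 5, 3, 4, 6, 4, 3, 5, 2, 1, 2, 5, 3, 4, 6], [4, 2, 3, 5, 1, 5, 3, 2, 4, 6, 4, 2, 3, 5, 1, 5, 3, 2, 4, 6], [5, 4, 3, 2, 1, 0, 1, 2, 3, 4, 5, 6, 5, 4, 3, 2, 1, 0, 1, 2, 3, 4, 5, 6, 5, 4, 3, 2, 1, 0, 1, 2, 3, 4, 5, 6], [1, 5, 3, 2, 1, 0, 1, 2, 3, 5, 1, 6, 1, 5, 3, 2, 1, 0, 1, 2, 3, 5, 1, 6], [3, 5, 3, 2, 1, 0, 1, 2, 3, 5, 3, 6, 3, 5, 3, 2, 1, 0, 1, 2, 3, 5,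 3, 6, 3, 5, 3, 2, 1, 0, 1, 2, 3, 5, 3, 6], [2, 3, 5, 2, 1, 0, 1, 2, 5, 3, 2, 6, 2, 3, 5, 2, 1, 0, 1, 2, 5, 3, 2, 6], [3, 4, 3, 2, 3, 4, 6, 4, 3, 2, 3, 4, 3, 2, 4, 6, 4, 2], [0], [1], [2], [3], [4], [5]]

/-- the certificate -/
noncomputable def cert : CertData where
  L := 7
  n := 1
  iv := fun x => x
  words := words
  nr := 131
  ep := epF
  node := nodeF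
  T := TF
  tf := tfF

/-- parents in the table -/
noncomputable def par : ℕ → ℕ := parF

end CfsgLib.FischerGQ.Cert.FiveA
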